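import Cfsg.Agent.Foote.Sheet
import Cfsg.Agent.Foote.Bridge
import Cfsg.Agent.S0215
import Cfsg.Agent.S0205
import Cfsg.Agent.S0144
import Cfsg.Agent.KFacts.Ru.PackD_m3
import Cfsg.Agent.OddHalf.D8.RuFam.PlaneRu_m3
import Cfsg.Agent.RuLat.Main
import Cfsg.Agent.FastGrp
import Cfsg.Agent.Prune
set_option linter.all false
prune_inst 0x7f00000000000000000000000000000000000000000000000000000000000000000000000000000000000000000000000000000000000000000000000000000000000000000000000000000000000000003fffffffffffffffffffffffffffbeffbdffffffff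
open scoped Cfsg.Agent.FastGrp

-- merged: Cfsg.Agent.FooteRow.Tool
section

/-!
# Strongly closed 2-subgroups: local lemmas for the sporadic rows HS, He, Ru, Fi22 (helper41)
-/

set_option autoImplicit false
set_option linter.style.haveILetI false

namespace Cfsg.Agent.FooteRow

open Subgroup Cfsg.Agent.TwoFusion.ClosedFam Cfsg.Agent.Foote

variable {G : Type*} [Group G]

/-- a group generated by its `2`-elements together with a normal subgroup: FT form.  A perfect finite group has no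
proper normal subgroup containing all the `2`-elements -/
theorem normal_eq_top [Finite G] (hG : commutator G = ⊤) (N : Subgroup G) [N.Normal]
    (hN : ∀ x : G, TwoEl x → x ∈ N) : N = ⊤ := by
  haveI : Fact (Nat.Prime 2) := ⟨Nat.prime_two⟩
  have h1 : Odd (Nat.card (G ⧸ N)) := by
    rw [← Nat.not_even_iff_odd]
    intro he
    obtain ⟨y, hy⟩ := exists_prime_orderOf_dvd_card' 2 he.two_dvd
    obtain ⟨x, rfl⟩ := QuotientGroup.mk'_surjective N y
    obtain ⟨a, m, hm, ham⟩ := Nat.exists_eq_two_pow_mul_odd (orderOf_pos x).ne'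
    have h2 : TwoEl (x ^ m) := ⟨a, by rw [← pow_mul, mul_comm, ← ham, pow_orderOf_eq_one]⟩
    have h3 : (QuotientGroup.mk' N x) ^ m = 1 := by
      rw [← map_pow]
      exact (QuotientGroup.eq_one_iff _).2 (hN _ h2)
    have h4 := orderOf_dvd_of_pow_eq_one h3
    rw [hy] at h4
    obtain ⟨c, hc⟩ := hm
    omega
  have h5 : commutator (G ⧸ N) = ⊤ := by
    have h6 : (⊤ : Subgroup G).map (QuotientGroup.mk' N) = ⊤ := by
      rw [← MonoidHom.range_eq_map]
      exact MonoidHom.range_eq_top.2 (QuotientGroup.mk'_surjective N)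
    have h7 := Subgroup.map_commutator (⊤ : Subgroup G) ⊤ (QuotientGroup.mk' N)
    have h8 : ⁅(⊤ : Subgroup G), ⊤⁆ = ⊤ := hG
    rw [h8, h6] at h7
    exact h7.symm
  have h6 : Subsingleton (G ⧸ N) := by
    by_contra hns
    haveI : Nontrivial (G ⧸ N) := not_subsingleton_iff_nontrivial.1 hns
    haveI : Group.IsSolvable (G ⧸ N) := Cfsg.Agent.S0205.result (G := G ⧸ N) h1
    exact (Group.IsSolvable.commutator_lt_top_of_nontrivial (G ⧸ N)).ne h5
  rw [eq_top_iff]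
  intro x _
  rw [← QuotientGroup.eq_one_iff (N := N)]
  exact Subsingleton.elim _ _

/-! ### small Sylow subgroups -/

/-- groups in which the nontrivial `2`-elements form one class -/
theorem cr_of_one_class (t : G) (ht : ∀ x : G, TwoEl x → x = 1 ∨ ∃ g : G, x = g * t * g⁻¹) : CR G := by
  intro 𝒜 h
  by_cases hne : Triv 𝒜
  · exact Or.inl hne
  right
  obtain ⟨x₀, hx₀, hx₀1⟩ : ∃ x ∈ 𝒜, x ≠ 1 := by
    by_contra hcon
    push Not at hcon
    exact hne hcon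
  obtain ⟨g, hg⟩ := (ht x₀ (h.two x₀ hx₀)).resolve_left hx₀1
  have h1 : t ∈ 𝒜 := by
    rw [hg] at hx₀
    exact (h.conj_mem_iff g).1 hx₀
  intro x hx
  rcases ht x hx with rfl | ⟨k, rfl⟩
  · exact h.one_mem
  · exact h.conj_mem t h1 k

/-! ### The local lemma -/

theorem perfect_of_surjective {K : Type*} [Group K] (f : G →* K) (hf : Function.Surjective f)
    (h : commutator G = ⊤) : commutator K = ⊤ := by
  have h1 : (⊤ : Subgroup G).map f = ⊤ := by
    rw [← MonoidHom.range_eq_map]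
    exact MonoidHom.range_eq_top.2 hf
  have h2 := Subgroup.map_commutator (⊤ : Subgroup G) ⊤ f
  have h3 : ⁅(⊤ : Subgroup G), ⊤⁆ = ⊤ := h
  rw [h3, h1] at h2
  exact h2.symm

theorem perfect_sub {P : Subgroup G} (h : ⁅P, P⁆ = P) : commutator P = ⊤ := by
  apply map_injective P.subtype_injective
  have h1 := Subgroup.map_commutator (⊤ : Subgroup P) ⊤ P.subtype
  have h2 : (⊤ : Subgroup P).map P.subtype = P := by
    rw [← MonoidHom.range_eq_map, range_subtype]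
  rw [h2, h] at h1
  rw [h2]
  exact h1

/-- `X` perfect, `N` a normal `2`-subgroup, `X/N = L` with `CR`: a closed family not contained in `N` generates `X`
modulo `N` -/
theorem gen_of_ne {X : Type*} [Group X] [Finite X] {𝒜 : Set X} (h : IsClosedFam 𝒜) (hX : commutator X = ⊤)
    {N : Subgroup X} [hNn : N.Normal] {L : Type*} [Group L] (hL : CR L) (f : X →* L)
    (hf : Function.Surjective f) (hker : f.ker = N) (hne : ∃ a ∈ 𝒜, a ∉ N) :
    fam 𝒜 ⊤ ⊔ N = ⊤ := by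
  obtain ⟨a₀, ha₀, ha₀N⟩ := hne
  haveI : Finite L := Finite.of_surjective f hf
  have himg : Full (f '' 𝒜) := by
    rcases hL _ (h.image hf) with h1 | h1
    · exfalso
      apply ha₀N
      rw [← hker, MonoidHom.mem_ker]
      exact h1 _ ⟨a₀, ha₀, rfl⟩
    · exact h1
  haveI : (fam 𝒜 (⊤ : Subgroup X)).Normal := h.fam_normal ⊤
  haveI hn : ((fam 𝒜 ⊤).map f).Normal := Subgroup.Normal.map inferInstance f hf
  have h1 : (fam 𝒜 ⊤).map f = ⊤ := by
    refine normal_eq_top (perfect_of_surjective f hf hX) _ fun x hx => ?_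
    obtain ⟨a, ha, rfl⟩ := himg x hx
    exact ⟨a, mem_fam ha (mem_top _), rfl⟩
  have h2 := comap_map_eq f (fam 𝒜 ⊤)
  rw [h1, comap_top, hker] at h2
  exact h2.symm

/-- the local lemma: `P` perfect, `R` a normal `2`-subgroup with `[R,P] = R`, `CR (P/R)`, `|S : S ∩ P| ≤ 2` -/
theorem full_of_local [Finite G] (hG : commutator G = ⊤) {P R : Subgroup G} (hRP : R ≤ P)
    (Rn : ∀ x ∈ P, ∀ r ∈ R, x * r * x⁻¹ ∈ R) (R2 : IsPGroup 2 R) (perf : ⁅P, P⁆ = P) (hRR : R ≤ ⁅P, R⁆)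
    {L : Type*} [Group L] (hL : CR L) (f : P →* L) (hf : Function.Surjective f) (hker : f.ker = R.subgroupOf P)
    (S : Sylow 2 G) (hidx : ∀ x ∈ S, ∀ y ∈ S, x ∉ P → y ∉ P → x * y ∈ P)
    {𝒜 : Set G} (h : IsClosedFam 𝒜) (hne : ∃ x ∈ 𝒜, x ∈ P ∧ x ∉ R) : Full 𝒜 := by
  have hr := h.restrict P
  haveI : (R.subgroupOf P).Normal := ⟨fun n hn g => by
    rw [mem_subgroupOf] at hn ⊢
    simpa only [_root_.Subgroup.coe_mul, _root_.InvMemClass.coe_inv] using Rn g g.2 n hn⟩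
  have hN2 : IsPGroup 2 (R.subgroupOf P) := R2.comap_of_injective _ P.subtype_injective
  obtain ⟨a₀, ha₀, ha₀P, ha₀R⟩ := hne
  have hgen := gen_of_ne hr (perfect_sub perf) hL f hf hker ⟨⟨a₀, ha₀P⟩, ha₀, fun hh => ha₀R (mem_subgroupOf.1 hh)⟩
  have hcomm := comm_mem_of_perfect hr (perfect_sub perf) hN2 hgen
  have hR : ∀ r ∈ R, r ∈ 𝒜 := by
    have h1 : ⁅P, R⁆ ≤ fam 𝒜 R := by
      rw [commutator_le]
      intro x hx r hrR
      have h2 := hcomm ⟨x, hx⟩ ⟨r, hRP hrR⟩ (mem_subgroupOf.2 hrR)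
      have h3 := ((hr.mem_fam_iff hN2).1 h2).1
      have h4 : x * r * x⁻¹ * r⁻¹ ∈ 𝒜 := h3
      exact mem_fam h4 (mul_mem (Rn x hx r hrR) (inv_mem hrR))
    intro r hrR
    exact ((h.mem_fam_iff R2).1 (h1 (hRR hrR))).1
  have hodd : ∀ x : P, TwoEl x → f x = 1 → (x : G) ∈ R := by
    intro x _ hx
    have h1 : x ∈ f.ker := hx
    rw [hker] at h1
    exact mem_subgroupOf.1 h1
  have hPall := full_on_of_hom hL f hf hodd h hR ⟨a₀, ha₀, ha₀P, ha₀R⟩
  by_cases hSP : (S : Subgroup G) ≤ P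
  · exact full_of_sylow h S fun x hx => hPall x (hSP hx) (twoEl_of_mem S.2 hx)
  · obtain ⟨s, hsS, hsP⟩ := SetLike.not_le_iff_exists.1 hSP
    refine full_of_cyclic hG h S s hsS fun x hx => ?_
    by_cases hxP : x ∈ P
    · exact ⟨0, by rw [zpow_zero, mul_one]; exact hPall x hxP (twoEl_of_mem S.2 hx)⟩
    · refine ⟨1, ?_⟩
      rw [zpow_one]
      exact hPall _ (hidx x hx s hsS hxP hsP) (twoEl_of_mem S.2 (mul_mem hx hsS))

/-- the row lemma: moreover `Ω₁(Z(S)) = ⟨z⟩` and the closed families containing `z` meet `P ∖ R` -/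
theorem cr_of_local [Finite G] (hG : commutator G = ⊤) {P R : Subgroup G} (hRP : R ≤ P)
    (Rn : ∀ x ∈ P, ∀ r ∈ R, x * r * x⁻¹ ∈ R) (R2 : IsPGroup 2 R) (perf : ⁅P, P⁆ = P) (hRR : R ≤ ⁅P, R⁆)
    {L : Type*} [Group L] (hL : CR L) (f : P →* L) (hf : Function.Surjective f) (hker : f.ker = R.subgroupOf P)
    (S : Sylow 2 G) (hidx : ∀ x ∈ S, ∀ y ∈ S, x ∉ P → y ∉ P → x * y ∈ P) (z : G)
    (hZ : ∀ y ∈ S, (∀ x ∈ S, x * y = y * x) → y * y = 1 → y ≠ 1 → y = z)
    (hout : ∀ 𝒜 : Set G, IsClosedFam 𝒜 → z ∈ 𝒜 → ∃ x ∈ 𝒜, x ∈ P ∧ x ∉ R) : CR G := by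
  intro 𝒜 h
  by_cases ht : Triv 𝒜
  · exact Or.inl ht
  right
  obtain ⟨y, hy, hy1, hyy, hyS, hyc⟩ := exists_central h ht S
  have hz : z ∈ 𝒜 := by rwa [← hZ y hyS hyc hyy hy1]
  exact full_of_local hG hRP Rn R2 perf hRR hL f hf hker S hidx h (hout 𝒜 h hz)

end Cfsg.Agent.FooteRow

end

-- merged: Cfsg.Agent.FooteRow.Ru
section

/-!
# Strongly closed 2-subgroups: the row `Ru` (helper41)
-/

set_option autoImplicit false
set_option linter.style.haveILetI false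

namespace Cfsg.Agent.FooteRow.Ru

open Subgroup Cfsg.Agent.TwoFusion.ClosedFam Cfsg.Agent.Foote Cfsg.Agent.SporadicB Cfsg.Agent.SporadicB.RuOrder
open Cfsg.Agent.OddHalf.D8.RuFam Cfsg.Agent.OddHalf.D9.Ru Cfsg.Agent.OddHalf.D9.Ru.XDef
open Cfsg.Agent.RuD.Letters

section Abs

variable {G : Type*} [Group G] {z : G} {P₀ R B E : Subgroup G}

/-- `R` is normal in `C(z)` -/
theorem R_norm (h : Loc (⊤ : Subgroup G) z P₀ R B E) :
    centralizer ({z} : Set G) ≤ normalizer (R : Set G) := by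
  have key : ∀ c : G, c * z = z * c → ∀ r ∈ R, c * r * c⁻¹ ∈ R := by
    intro c hc r hr
    have hP : ∀ p ∈ P₀, c * p * c⁻¹ ∈ P₀ := by
      intro p hp
      have h1 := h.com c (mem_top _) p (mem_top _) hc (h.Pz p hp)
      have h2 := mul_mem h1 hp
      have e : c * p * c⁻¹ * p⁻¹ * p = c * p * c⁻¹ := by group
      rwa [e] at h2
    have hc' : c⁻¹ * z = z * c⁻¹ := by
      calc c⁻¹ * z = c⁻¹ * (z * c) * c⁻¹ := by group
        _ = c⁻¹ * (c * z) * c⁻¹ := by rw [hc]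
        _ = z * c⁻¹ := by group
    have hP' : ∀ p ∈ P₀, c⁻¹ * p * c ∈ P₀ := by
      intro p hp
      have h1 := h.com c⁻¹ (mem_top _) p (mem_top _) hc' (h.Pz p hp)
      have h2 := mul_mem h1 hp
      have e : c⁻¹ * p * c⁻¹⁻¹ * p⁻¹ * p = c⁻¹ * p * c := by group
      rwa [e] at h2
    have h1 : R.map (MulAut.conj c).toMonoidHom ≤ R := by
      refine h.Rmax _ ?_ (h.R2.map _) ?_
      · rintro _ ⟨r, hr, rfl⟩
        exact hP r (h.RP hr)
      · rintro p hp _ ⟨r, hr, rfl⟩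
        refine ⟨(c⁻¹ * p * c) * r * (c⁻¹ * p * c)⁻¹, h.Rn _ (hP' p hp) r hr, ?_⟩
        show c * ((c⁻¹ * p * c) * r * (c⁻¹ * p * c)⁻¹) * c⁻¹ = p * (c * r * c⁻¹) * p⁻¹
        group
    exact h1 ⟨r, hr, rfl⟩
  intro c hc
  have hc1 := mem_centralizer_singleton_iff.1 hc
  have hc2 := mem_centralizer_singleton_iff.1 (inv_mem hc)
  rw [mem_normalizer_iff]
  intro r
  constructor
  · exact key c hc1 r
  · intro hr
    have h1 := key c⁻¹ hc2 _ hr
    have e : c⁻¹ * (c * r * c⁻¹) * c⁻¹⁻¹ = r := by group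
    rwa [e] at h1

theorem cr_of_loc [Finite G] (hG : commutator G = ⊤) (h : Loc (⊤ : Subgroup G) z P₀ R B E)
    (hodd : ¬ 2 ∣ (centralizer ({z} : Set G)).index) {L : Type*} [Group L] (hL : CR L) (f : P₀ →* L)
    (hf : Function.Surjective f) (hker : f.ker = R.subgroupOf P₀)
    (k e₁ eb : G) (hk : k * z * k⁻¹ ∈ E) (hk1 : k * z * k⁻¹ ≠ z) (he₁ : k⁻¹ * e₁ * k ∈ E) (he₁P : e₁ ∈ P₀)
    (heb : eb ∈ E) (hc : eb * e₁ * eb⁻¹ * e₁⁻¹ = k * z * k⁻¹) : CR G := by
  haveI : Fact (Nat.Prime 2) := ⟨Nat.prime_two⟩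
  obtain ⟨S, hS⟩ := exists_sylow_le hodd
  have hRz : R ≤ centralizer ({z} : Set G) := fun r hr => mem_centralizer_singleton_iff.2 (h.Pz r (h.RP hr))
  have hRS : R ≤ S := le_sylow_of_normal h.R2 (R_norm h) S hS
  have hER : E ≤ R := by
    have h1 : B ≤ R := h.BR
    intro e he
    refine h1 ((h.cenE e (mem_top _)).2 fun e' he' => ?_)
    -- `E` is abelian: all squares are trivial
    have h2 := h.EE _ (mul_mem he he')
    have h3 : e⁻¹ = e := inv_eq_of_mul_eq_one_left (h.EE e he)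
    have h4 : e'⁻¹ = e' := inv_eq_of_mul_eq_one_left (h.EE e' he')
    have h5 : (e * e')⁻¹ = e * e' := inv_eq_of_mul_eq_one_left h2
    rw [mul_inv_rev, h3, h4] at h5
    exact h5.symm
  have hzS : z ∈ S := hRS (hER h.zE)
  have hidx : ∀ x ∈ S, ∀ y ∈ S, x ∉ P₀ → y ∉ P₀ → x * y ∈ P₀ := fun x hx y hy hxP hyP =>
    h.idx x (mem_top _) y (mem_top _) (mem_centralizer_singleton_iff.1 (hS hx))
      (mem_centralizer_singleton_iff.1 (hS hy)) hxP hyP
  have hRR : R ≤ ⁅P₀, R⁆ := by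
    rw [commutator_comm]
    exact h.RRP
  have hEn : ∀ p ∈ P₀, ∀ e ∈ E, p * e * p⁻¹ ∈ E := by
    intro p hp e he
    have h1 : p ∈ centralizer ({z} : Set G) := mem_centralizer_singleton_iff.2 (h.Pz p hp)
    have h2 := R_norm h h1
    have h3 : E.map (MulAut.conj p).toMonoidHom ≤ E := by
      rw [← h.RR, map_commutator]
      have h4 : R.map (MulAut.conj p).toMonoidHom ≤ R := by
        rintro _ ⟨r, hr, rfl⟩
        exact (mem_normalizer_iff.1 h2 r).1 hr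
      exact commutator_mono h4 h4
    exact h3 ⟨e, he, rfl⟩
  have hE2 : IsPGroup 2 E := by
    rintro ⟨e, he⟩
    exact ⟨1, Subtype.ext (by show e ^ 2 ^ 1 = 1; rw [pow_one, pow_two]; exact h.EE e he)⟩
  refine cr_of_local hG h.RP h.Rn h.R2 h.perf hRR hL f hf hker S hidx z ?_ ?_
  · intro y hyS hy hyy hy1
    have hyz : y * z = z * y := (hy z hzS).symm
    have hyB : y ∈ B := (h.cenE y (mem_top _)).2 fun e he => (hy e (hRS (hER he))).symm
    have hyE : y ∈ E := h.BE y hyB fun r hr => Or.inl (by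
      rw [mul_inv_eq_one, mul_inv_eq_iff_eq_mul]
      exact (hy r (hRS hr)).symm)
    exact (h.ZR y hyE fun r hr => (hy r (hRS hr)).symm).resolve_left hy1
  · intro 𝒜 h𝒜 hz
    have hu : k * z * k⁻¹ ∈ 𝒜 := h𝒜.conj_mem z hz k
    have hmem : ∀ x : G, x ∈ fam 𝒜 E ↔ x ∈ 𝒜 ∧ x ∈ E := fun x => h𝒜.mem_fam_iff hE2
    obtain ⟨a, haP, -, -, -, ha⟩ := h.five
    have hE𝒜 : ∀ e ∈ E, e ∈ 𝒜 := by
      rcases ha (fam 𝒜 E) (fam_le _ _) ((hmem z).2 ⟨hz, h.zE⟩) (by
        intro q hq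
        rw [hmem] at hq ⊢
        exact ⟨h𝒜.conj_mem q hq.1 a, hEn a haP q hq.2⟩) with h1 | h1
      · exfalso
        rcases h1 _ ((hmem _).2 ⟨hu, hk⟩) with h2 | h2
        · apply h.z1
          calc z = k⁻¹ * (k * z * k⁻¹) * k := by group
            _ = 1 := by rw [h2]; group
        · exact hk1 h2
      · intro e he
        rw [← h1, hmem] at he
        exact he.1
    refine ⟨e₁, ?_, he₁P, ?_⟩
    · have h1 := h𝒜.conj_mem _ (hE𝒜 _ he₁) k
      have e : k * (k⁻¹ * e₁ * k) * k⁻¹ = e₁ := by group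
      rwa [e] at h1
    · intro hR
      have h1 := h.RE e₁ hR eb heb
      have h2 : e₁ * eb * e₁⁻¹ * eb⁻¹ = (k * z * k⁻¹)⁻¹ := by
        rw [← hc]; group
      have h3 : (k * z * k⁻¹)⁻¹ = k * z * k⁻¹ := by
        have : z⁻¹ = z := inv_eq_of_mul_eq_one_left h.zz
        calc (k * z * k⁻¹)⁻¹ = k * z⁻¹ * k⁻¹ := by group
          _ = _ := by rw [this]
      rw [h2, h3] at h1
      rcases h1 with h1 | h1
      · apply h.z1
        calc z = k⁻¹ * (k * z * k⁻¹) * k := by group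
          _ = 1 := by rw [h1]; group
      · exact hk1 h1

end Abs

/-! ### The quotient `P₀/R ≅ A₅` -/

theorem finH : Finite RuOrder.H := Nat.finite_of_card_ne_zero (by rw [RuOrder.card_H]; norm_num)

/-- the centraliser of `z` has odd index -/
theorem odd : ¬ 2 ∣ (centralizer ({S * S} : Set RuOrder.H)).index := by
  have h := (centralizer ({S * S} : Set RuOrder.H)).index_mul_card
  rw [XCover.card_cent, RuOrder.card_H] at h
  have : (centralizer ({S * S} : Set RuOrder.H)).index = 593775 :=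
    Nat.eq_of_mul_eq_mul_right (by norm_num : 0 < 245760) (h.trans (by norm_num))
  rw [this]
  norm_num

theorem R_normal : (XR.R.subgroupOf P1).Normal := ⟨fun n hn g => by
  rw [mem_subgroupOf] at hn ⊢
  simpa only [_root_.Subgroup.coe_mul, _root_.InvMemClass.coe_inv] using XR.R_nor g g.2 n hn⟩

theorem cr_quot : haveI := R_normal; CR (P1 ⧸ XR.R.subgroupOf P1) := by
  haveI := R_normal
  have hTA : T ∈ XR.A := XR.T_A
  refine cr_of_one_class (QuotientGroup.mk' (XR.R.subgroupOf P1) ⟨T, XR.A_le hTA⟩) ?_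
  intro x hx
  obtain ⟨⟨x, hxP⟩, rfl⟩ := QuotientGroup.mk'_surjective (XR.R.subgroupOf P1) x
  obtain ⟨r, hr, a, ha, rfl⟩ := XR.cover x hxP
  have e : QuotientGroup.mk' (XR.R.subgroupOf P1) ⟨r * a, hxP⟩ =
      QuotientGroup.mk' (XR.R.subgroupOf P1) ⟨a, XR.A_le ha⟩ := by
    have e1 : (⟨r * a, hxP⟩ : P1) = ⟨r, XR.R_le hr⟩ * ⟨a, XR.A_le ha⟩ := rfl
    have e2 : QuotientGroup.mk' (XR.R.subgroupOf P1) ⟨r, XR.R_le hr⟩ = 1 :=
      (QuotientGroup.eq_one_iff _).2 (mem_subgroupOf.2 hr)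
    rw [e1, map_mul, e2, one_mul]
  rw [e] at hx ⊢
  have hodd : ∀ m : ℕ, Odd m → a ^ m = 1 → QuotientGroup.mk' (XR.R.subgroupOf P1) ⟨a, XR.A_le ha⟩ = 1 := by
    intro m hm ham
    obtain ⟨k, hk⟩ := hx
    have h1 : (QuotientGroup.mk' (XR.R.subgroupOf P1) ⟨a, XR.A_le ha⟩) ^ m = 1 := by
      rw [← map_pow]
      have : (⟨a, XR.A_le ha⟩ : P1) ^ m = 1 := Subtype.ext (by simpa only [_root_.SubmonoidClass.mk_pow, _root_.OneMemClass.coe_one] using ham)
      rw [this, map_one]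
    have d1 := orderOf_dvd_of_pow_eq_one hk
    have d2 := orderOf_dvd_of_pow_eq_one h1
    have hcop : Nat.Coprime (2 ^ k) m := Nat.Coprime.pow_left k (Nat.coprime_two_left.2 hm)
    exact orderOf_eq_one_iff.1 (Nat.eq_one_of_dvd_coprimes hcop d1 d2)
  rcases XR.elt_A a ha with h | h | ⟨c, hc, h⟩
  · exact Or.inl (hodd 3 (by decide) h)
  · exact Or.inl (hodd 5 (by decide) h)
  · right
    refine ⟨QuotientGroup.mk' (XR.R.subgroupOf P1) ⟨c, XR.A_le hc⟩, ?_⟩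
    rw [← map_inv, ← map_mul, ← map_mul]
    congr 1
    exact Subtype.ext h.symm

/-! ### The row -/

theorem u_ne : PlaneRu.k * (S * S) * PlaneRu.k⁻¹ ≠ S * S := by
  intro h
  have hp := PlaneRu.plane
  rw [hp.ku] at h
  have h1 := hp.ρu
  rw [h] at h1
  have h2 := Cfsg.Agent.KFacts.Ru.PackD.loc.Pz _ hp.ρP
  have h3 : PlaneRu.ρ * (S * S) * PlaneRu.ρ⁻¹ = S * S := by rw [h2]; group
  have h4 : PlaneRu.ρ * PlaneRu.ρ * (S * S) * PlaneRu.ρ⁻¹ * PlaneRu.ρ⁻¹ = S * S := by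
    calc PlaneRu.ρ * PlaneRu.ρ * (S * S) * PlaneRu.ρ⁻¹ * PlaneRu.ρ⁻¹
        = PlaneRu.ρ * (PlaneRu.ρ * (S * S) * PlaneRu.ρ⁻¹) * PlaneRu.ρ⁻¹ := by group
      _ = S * S := by rw [h3, h3]
  rw [h3, h4, Cfsg.Agent.KFacts.Ru.PackD.loc.zz, one_mul] at h1
  exact Cfsg.Agent.KFacts.Ru.PackD.loc.z1 h1

theorem perfect_H : commutator RuOrder.H = ⊤ := by
  haveI : IsSimpleGroup RuOrder.H := RuSimple.isSimpleGroup_H
  refine perfect_of_simple fun hc => ?_
  have hp := PlaneRu.plane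
  refine u_ne ?_
  rw [hc PlaneRu.k (S * S)]
  group

theorem cr_H : CR RuOrder.H := by
  haveI := finH
  haveI := R_normal
  have hp := PlaneRu.plane
  refine cr_of_loc perfect_H Cfsg.Agent.KFacts.Ru.PackD.loc odd cr_quot
    (QuotientGroup.mk' (XR.R.subgroupOf P1)) (QuotientGroup.mk'_surjective _) (QuotientGroup.ker_mk' _)
    PlaneRu.k PlaneRu.e₁ PlaneRu.eb ?_ u_ne hp.e₁E hp.e₁P hp.ebE ?_
  · rw [hp.ku]; exact hp.uE
  · rw [hp.ku]; exact hp.eb₁

theorem cr : CR Cfsg.Spor.Ru := cr_H.of_equiv Cfsg.Agent.RuLat.Main.equiv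

/-- **the row `Ru`** -/
theorem closedRow : Cfsg.Agent.ClosedTwo.ClosedRow Cfsg.Spor.Ru := by
  haveI := finH
  haveI : Finite Cfsg.Spor.Ru := Finite.of_equiv _ Cfsg.Agent.RuLat.Main.equiv.toEquiv.symm
  exact cr.closedRow

end Cfsg.Agent.FooteRow.Ru

end
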